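import Cfsg.Agent.H674.BR.Model
import Cfsg.Agent.ClassicalGeometry.SympBasic
import Cfsg.Agent.LieClassical.SympCenter

/-!
# The symplectic polar space and the action of `PSp m F` on its totally isotropic `k`-spaces (S4891, helper895)

* `spPol m F` : the polar structure, `L y x = sympForm m F x y`, every vector singular;
* `spRho m F : symplecticGroup (Fin m) F →* (V ≃ₗ[F] V)`, `spRho m F A v = A *ᵥ v`;
* `sp_model : Model (spPol m F) (spRho m F) (QuotientGroup.mk' (center Sp))`.
-/

set_option autoImplicit false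

open Cfsg Module Matrix
open Cfsg.Agent.ClassicalGeometry.SympBasic Cfsg.Agent.H2.Pol Cfsg.Agent.H674.BR

namespace Cfsg.Agent.H895.BR

universe u

variable (m : ℕ) (F : Type u) [Field F]

/-- the symplectic polar structure -/
def spPol : Pol F (Fin m ⊕ Fin m → F) where
  L y := (sympBilin m F).flip y
  refl x y h := by
    have h' : sympForm m F x y = 0 := h
    show sympForm m F y x = 0
    rw [sympForm_swap, h', neg_zero]
  sing _ := True
  sing_zero := trivial
  sing_add _ _ _ _ _ := trivial
  sing_smul _ _ _ := trivial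

variable {m F}

theorem spPol_L (x y : Fin m ⊕ Fin m → F) : (spPol m F).L y x = sympForm m F x y := rfl

theorem spPol_sing (x : Fin m ⊕ Fin m → F) : (spPol m F).sing x := trivial

theorem spPol_ti_iff {U : Submodule F (Fin m ⊕ Fin m → F)} :
    (spPol m F).TI U ↔ ∀ x ∈ U, ∀ y ∈ U, sympForm m F x y = 0 :=
  ⟨fun h => h.2, fun h => ⟨fun _ _ => trivial, h⟩⟩

variable (m F) in
/-- the natural representation of `Sp` -/
noncomputable def spRho : Matrix.symplecticGroup (Fin m) F →* ((Fin m ⊕ Fin m → F) ≃ₗ[F] (Fin m ⊕ Fin m → F)) where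
  toFun A :=
    { toFun := fun v => (A : Matrix (Fin m ⊕ Fin m) (Fin m ⊕ Fin m) F) *ᵥ v
      map_add' := fun u v => Matrix.mulVec_add _ u v
      map_smul' := fun a v => Matrix.mulVec_smul _ a v
      invFun := fun v => ((A⁻¹ : Matrix.symplecticGroup (Fin m) F) :
        Matrix (Fin m ⊕ Fin m) (Fin m ⊕ Fin m) F) *ᵥ v
      left_inv := fun v => by
        dsimp only
        rw [← coe_mul_mulVec, inv_mul_cancel, Submonoid.coe_one, Matrix.one_mulVec]
      right_inv := fun v => by
        dsimp only
        rw [← coe_mul_mulVec, mul_inv_cancel, Submonoid.coe_one, Matrix.one_mulVec] }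
  map_one' := by
    ext1 v
    change ((1 : Matrix.symplecticGroup (Fin m) F) :
        Matrix (Fin m ⊕ Fin m) (Fin m ⊕ Fin m) F) *ᵥ v = v
    rw [Submonoid.coe_one, Matrix.one_mulVec]
  map_mul' A B := by
    ext1 v
    exact coe_mul_mulVec A B v

theorem spRho_apply (A : Matrix.symplecticGroup (Fin m) F) (v : Fin m ⊕ Fin m → F) :
    spRho m F A v = (A : Matrix (Fin m ⊕ Fin m) (Fin m ⊕ Fin m) F) *ᵥ v := rfl

theorem sympForm_spRho (A : Matrix.symplecticGroup (Fin m) F) (u v : Fin m ⊕ Fin m → F) :
    sympForm m F (spRho m F A u) (spRho m F A v) = sympForm m F u v :=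
  sympForm_mulVec A.2 u v

/-- a linear isometry comes from `Sp` -/
theorem exists_spRho_eq (g : (Fin m ⊕ Fin m → F) →ₗ[F] (Fin m ⊕ Fin m → F))
    (hg : ∀ u v, sympForm m F (g u) (g v) = sympForm m F u v) :
    ∃ A : Matrix.symplecticGroup (Fin m) F, ∀ v, spRho m F A v = g v := by
  have hL : ∀ v, LinearMap.toMatrix' g *ᵥ v = g v := fun v => LinearMap.toMatrix'_mulVec g v
  refine ⟨⟨LinearMap.toMatrix' g, ?_⟩, fun v => hL v⟩
  rw [mem_symplecticGroup_iff]
  intro u v
  rw [hL, hL, hg]

theorem sp_acts : Acts (spPol m F) (spRho m F) where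
  sing _ _ _ := trivial
  orth g x y h := by
    rw [spPol_L, sympForm_spRho]
    exact h

/-- **the model** -/
theorem sp_model : Model (spPol m F) (spRho m F)
    (QuotientGroup.mk' (Subgroup.center (Matrix.symplecticGroup (Fin m) F)) :
      Matrix.symplecticGroup (Fin m) F →* PSp m F) where
  toActs := sp_acts
  surj := QuotientGroup.mk'_surjective _
  ker g hg U := by
    have h1 : g ∈ Subgroup.center (Matrix.symplecticGroup (Fin m) F) := (QuotientGroup.eq_one_iff g).1 hg
    obtain ⟨a, ha⟩ := (Cfsg.Agent.LieClassical.SympCenter.mem_center_iff m g).1 h1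
    have hv : ∀ v, spRho m F g v = a • v := fun v => by
      rw [spRho_apply, ha, Matrix.smul_mulVec, Matrix.one_mulVec]
    have ha0 : ∀ v : Fin m ⊕ Fin m → F, v ≠ 0 → a ≠ 0 := by
      rintro v hv0 rfl
      apply hv0
      apply (spRho m F g).injective
      rw [hv, zero_smul, map_zero]
    ext w
    constructor
    · rintro ⟨v, hvU, rfl⟩
      show spRho m F g v ∈ U
      rw [hv]
      exact U.smul_mem a hvU
    · intro hw
      by_cases hw0 : w = 0
      · rw [hw0]
        exact Submodule.zero_mem _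
      · refine ⟨a⁻¹ • w, U.smul_mem _ hw, ?_⟩
        show spRho m F g (a⁻¹ • w) = w
        rw [hv, smul_smul, mul_inv_cancel₀ (ha0 w hw0), one_smul]

end Cfsg.Agent.H895.BR
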